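import Groth.Agent.SubobjQuot.Noetherian
import Groth.Agent.SubobjQuot.Directed
import Mathlib.CategoryTheory.Adjunction.Limits
import Mathlib.CategoryTheory.Functor.ReflectsIso.Balanced
import Mathlib.CategoryTheory.Limits.Preserves.Filtered
import Mathlib.CategoryTheory.Limits.Preserves.Finite
import Mathlib.CategoryTheory.Generator.Basic

/-!
A faithful exact left adjoint whose right adjoint preserves filtered colimits: AB5 and generators
descend to the source.
-/

set_option autoImplicit false
universe w u₁ u₂

open CategoryTheory CategoryTheory.Limits Groth.Agent.SubobjQuot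
open scoped ZeroObject

namespace Groth.Agent.FaithAdj

variable {A : Type u₁} [Category.{w} A] [Abelian A] [HasColimitsOfSize.{w, w} A]
  {B : Type u₂} [Category.{w} B] [Abelian B] [HasColimitsOfSize.{w, w} B] [AB5OfSize.{w, w} B]
  (F : A ⥤ B) (G : B ⥤ A) (adj : F ⊣ G) [F.Additive] [F.Faithful]
  [PreservesFiniteLimits F] [PreservesFiniteColimits F] [PreservesFilteredColimitsOfSize.{w, w} G]

theorem mk_map_injective (a : A) :
    Function.Injective fun M : Subobject a => Subobject.mk (F.map M.arrow) := by
  have key : ∀ M M' : Subobject a,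
      Subobject.mk (F.map M.arrow) ≤ Subobject.mk (F.map M'.arrow) → M ≤ M' := by
    intro M M' hMM
    apply le_of_factors
    rw [factors_iff_comp]
    apply F.map_injective
    have : F.PreservesZeroMorphisms := inferInstance
    rw [F.map_comp, F.map_zero, ← Subobject.ofMkLEMk_comp hMM, Category.assoc, ← F.map_comp,
      cokernel.condition, F.map_zero, comp_zero]
  exact fun M M' e => le_antisymm (key M M' e.le) (key M' M e.ge)

include adj

theorem ab5 : AB5OfSize.{w, w} A where
  ofShape J _ _ := by
    refine ⟨?_⟩
    have := adj.leftAdjoint_preservesColimits.{w, w}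
    let e : colim (J := J) (C := A) ⋙ F ≅ (Functor.whiskeringRight J A B).obj F ⋙ colim :=
      preservesColimitNatIso F
    have h1 : PreservesFiniteLimits (colim (J := J) (C := B)) :=
      HasExactColimitsOfShape.preservesFiniteLimits
    have hwh : PreservesFiniteLimits ((Functor.whiskeringRight J A B).obj F) := ⟨fun K _ _ => inferInstance⟩
    have h2 : PreservesFiniteLimits (colim (J := J) (C := A) ⋙ F) := by
      have : PreservesFiniteLimits ((Functor.whiskeringRight J A B).obj F ⋙ colim) :=
        comp_preservesFiniteLimits _ _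
      exact preservesFiniteLimits_of_natIso e.symm
    have : ReflectsFiniteLimits F :=
      ⟨fun K _ _ => reflectsLimitsOfShape_of_reflectsIsomorphisms⟩
    exact preservesFiniteLimits_of_reflects_of_preserves colim F

theorem isNoetherianObject_of_map (a : A) [IsNoetherianObject (F.obj a)] : IsNoetherianObject a := by
  rw [isNoetherianObject_iff_wf]
  exact StrictMono.wellFoundedGT (f := fun M : Subobject a => Subobject.mk (F.map M.arrow))
    (Monotone.strictMono_of_injective (fun M M' h => Subobject.mk_le_mk_of_comm
      (F.map (Subobject.ofLE _ _ h)) (by rw [← F.map_comp, Subobject.ofLE_arrow]))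
      (mk_map_injective F a))

variable {X : A} {J : Type w} [Preorder J] [IsDirectedOrder J] [Nonempty J]

/-- The preimage in `X` of a subobject of `F X`. -/
noncomputable def comap (N : Subobject (F.obj X)) : Subobject X :=
  haveI : G.IsRightAdjoint := adj.isRightAdjoint
  (Subobject.pullback (adj.unit.app X)).obj (Subobject.mk (G.map N.arrow))

/-- The map `F (comap N) ⟶ N`. -/
theorem exists_mono_map_comap (N : Subobject (F.obj X)) :
    ∃ l : F.obj (comap F G adj N : A) ⟶ (N : B), Mono l := by
  have : G.IsRightAdjoint := adj.isRightAdjoint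
  refine ⟨F.map (Subobject.pullbackπ _ _ ≫ (Subobject.underlyingIso _).hom) ≫ adj.counit.app _, ?_⟩
  have e : (F.map (Subobject.pullbackπ (adj.unit.app X) (Subobject.mk (G.map N.arrow)) ≫
      (Subobject.underlyingIso _).hom) ≫ adj.counit.app _) ≫ N.arrow =
      F.map (comap F G adj N).arrow := by
    have hnat : adj.counit.app (N : B) ≫ N.arrow = F.map (G.map N.arrow) ≫ adj.counit.app (F.obj X) :=
      (adj.counit.naturality N.arrow).symm
    rw [Category.assoc, hnat, ← Category.assoc, ← F.map_comp, Category.assoc,
      Subobject.underlyingIso_hom_comp_eq_mk,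
      (Subobject.isPullback (adj.unit.app X) (Subobject.mk (G.map N.arrow))).w, F.map_comp,
      Category.assoc]
    exact (congrArg (F.map (comap F G adj N).arrow ≫ ·) (adj.left_triangle_components X)).trans
      (Category.comp_id _)
  exact mono_of_mono_fac e

theorem covers_comap (N : J → Subobject (F.obj X)) (hN : Monotone N) (hc : Covers N) :
    Covers fun j => comap F G adj (N j) := by
  have : G.IsRightAdjoint := adj.isRightAdjoint
  have := adj.leftAdjoint_preservesColimits.{w, w}
  have : PreservesColimitsOfShape J G := PreservesFilteredColimitsOfSize.preserves_filtered_colimits _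
  have : PreservesColimit (famFunctor N hN) (G ⋙ F) := inferInstance
  have : IsSplitMono (F.map (adj.unit.app X)) :=
    IsSplitMono.mk' ⟨_, adj.left_triangle_components X⟩
  let M : J → Subobject (F.obj (G.obj (F.obj X))) := fun j =>
    Subobject.mk (F.map (G.map (N j).arrow))
  have hM : Monotone M := fun j j' h => Subobject.mk_le_mk_of_comm
    (F.map (G.map (Subobject.ofLE _ _ (hN h))))
    (by rw [← F.map_comp, ← G.map_comp, Subobject.ofLE_arrow])
  have hMc : Covers M := fun Z g hg => by
    refine (isColimitOfPreserves (G ⋙ F) (isColimitFam N hN hc)).hom_ext fun j => ?_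
    refine Eq.trans ?_ comp_zero.symm
    show F.map (G.map (N j).arrow) ≫ g = 0
    rw [← Subobject.underlyingIso_arrow (F.map (G.map (N j).arrow)), Category.assoc, hg j,
      comp_zero]
  intro Z g hg
  apply F.map_injective
  rw [F.map_zero]
  refine hMc.pullback hM (F.map (adj.unit.app X)) _ fun j => ?_
  have hp := (Subobject.isPullback (adj.unit.app X) (Subobject.mk (G.map (N j).arrow))).map F
  have hp' := Subobject.isPullback (F.map (adj.unit.app X)) (M j)
  let l : ((Subobject.pullback (F.map (adj.unit.app X))).obj (M j) : B) ⟶ F.obj (comap F G adj (N j) : A) :=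
    hp.lift (Subobject.pullbackπ _ _ ≫ (Subobject.underlyingIso _).hom ≫
      F.map (Subobject.underlyingIso (G.map (N j).arrow)).inv) _ (by
      rw [← hp'.w]
      simp only [M, Category.assoc]
      rw [← F.map_comp, Subobject.underlyingIso_arrow, Subobject.underlyingIso_hom_comp_eq_mk])
  rw [← (show l ≫ F.map (comap F G adj (N j)).arrow =
    ((Subobject.pullback (F.map (adj.unit.app X))).obj (M j)).arrow from hp.lift_snd _ _ _),
    Category.assoc, ← F.map_comp, hg j, F.map_zero, comp_zero]

omit [IsDirectedOrder J] [Nonempty J] [Preorder J]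

section gen

omit adj

variable {ι : Type w} (s : ι → B)

/-- Finite direct sums. -/
noncomputable def listSum : List ι → B
  | [] => 0
  | i :: l => s i ⊞ listSum l

theorem exists_epi_listSum {Y : B} {K : Type w} (k : K → ι) (f : ∀ x, s (k x) ⟶ Y) (T : Finset K) :
    ∃ (l : List ι) (e : listSum s l ⟶ ((T.sup fun x => imageSubobject (f x) : Subobject Y) : B)),
      Epi e := by
  classical
  induction T using Finset.induction with
  | empty =>
    refine ⟨[], 0, ⟨fun g h _ => ?_⟩⟩
    exact ((isZero_zero B).of_iso Subobject.botCoeIsoZero).eq_of_src _ _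
  | insert a T ha ih =>
    obtain ⟨l, e, he⟩ := ih
    have : Epi (biprod.map (factorThruImageSubobject (f a)) e) :=
      Preadditive.epi_of_cancel_zero _ fun g hg => biprod.hom_ext' _ _
        (by
          rw [comp_zero, ← cancel_epi (factorThruImageSubobject (f a)), comp_zero]
          simpa using congrArg (biprod.inl ≫ ·) hg)
        (by
          rw [comp_zero, ← cancel_epi e, comp_zero]
          simpa using congrArg (biprod.inr ≫ ·) hg)
    have heq : ((imageSubobject (biprod.desc (imageSubobject (f a)).arrow
        (T.sup fun x => imageSubobject (f x)).arrow) : Subobject Y) : B) =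
        (((insert a T).sup fun x => imageSubobject (f x) : Subobject Y) : B) := by
      rw [← sup_eq_image, Finset.sup_insert]
    have he' : Epi (factorThruImageSubobject (biprod.desc (imageSubobject (f a)).arrow
        (T.sup fun x => imageSubobject (f x)).arrow) ≫ eqToHom heq) := epi_comp _ _
    exact ⟨k a :: l, _, epi_comp (biprod.map (factorThruImageSubobject (f a)) e)
      (factorThruImageSubobject (biprod.desc (imageSubobject (f a)).arrow
        (T.sup fun x => imageSubobject (f x)).arrow) ≫ eqToHom heq)⟩

theorem hasSeparator_of_family {ι : Type w}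
    (s : ι → B) (hsep : ∀ ⦃X Y : B⦄ (f g : X ⟶ Y), (∀ (i : ι) (h : s i ⟶ X), h ≫ f = h ≫ g) → f = g) :
    HasSeparator B := by
  classical
  refine ⟨∐ s, (isSeparator_def _).2 fun X Y f g h => hsep f g fun i a => ?_⟩
  have := congrArg (Sigma.ι s i ≫ ·)
    (h (Sigma.desc fun j => if e : j = i then eqToHom (by rw [e]) ≫ a else 0))
  simpa using this

variable [HasSeparator B]

theorem isGrothendieckAbelian_target : IsGrothendieckAbelian.{w} B where

end gen

/-- The candidate generators of `A`. -/
noncomputable def genObj {ι : Type w} (s : ι → B) [WellPowered.{w} B] [WellPowered.{w} A]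
    (k : Σ (l : List ι) (Q : Shrink.{w} (Subobject (listSum s l))),
      Shrink.{w} (Subobject (G.obj (cokernel ((equivShrink _).symm Q).arrow)))) : A :=
  ((equivShrink _).symm k.2.2 : Subobject _)

theorem wellPowered [WellPowered.{w} B] : WellPowered.{w} A where
  subobject_small a := small_of_injective (mk_map_injective F a)

omit [IsDirectedOrder J] [Nonempty J] in
/-- Preimages of finitely generated subobjects are candidate generators. -/
theorem exists_iso_genObj {ι : Type w} (s : ι → B) [WellPowered.{w} B] [WellPowered.{w} A]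
    (N : Subobject (F.obj X)) {l : List ι} (e : listSum s l ⟶ (N : B)) [Epi e]
    [Mono (adj.unit.app X)] :
    ∃ k, Nonempty (genObj G s k ≅ (comap F G adj N : A)) := by
  have : G.IsRightAdjoint := adj.isRightAdjoint
  let Q := equivShrink.{w} (Subobject (listSum s l)) (kernelSubobject e)
  have hQ : (equivShrink _).symm Q = kernelSubobject e := Equiv.symm_apply_apply _ _
  have hw : ((equivShrink _).symm Q).arrow ≫ e = 0 := by rw [hQ]; exact kernelSubobject_arrow_comp e
  let θ : cokernel ((equivShrink _).symm Q).arrow ⟶ (N : B) := cokernel.desc _ e hw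
  have : Epi θ := by
    have : Epi (cokernel.π ((equivShrink _).symm Q).arrow ≫ θ) := by
      rw [cokernel.π_desc]; infer_instance
    exact epi_of_epi (cokernel.π ((equivShrink _).symm Q).arrow) θ
  have : Mono θ := by
    refine Preadditive.mono_of_cancel_zero _ fun {T} x hx => ?_
    obtain ⟨T₁, π₁, _, y, hy⟩ := surjective_up_to_refinements_of_epi (cokernel.π _) x
    have h := congrArg (π₁ ≫ ·) hx
    simp only [comp_zero] at h
    rw [← Category.assoc, hy, Category.assoc, cokernel.π_desc] at h
    rw [← cancel_epi π₁, hy, comp_zero]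
    refine (factors_iff_comp y).1 ?_
    rw [hQ]
    exact kernelSubobject_factors e y h
  have : IsIso θ := isIso_of_mono_of_epi θ
  have hπ : Mono (Subobject.pullbackπ (adj.unit.app X) (Subobject.mk (G.map N.arrow))) := by
    have : Mono (Subobject.pullbackπ (adj.unit.app X) (Subobject.mk (G.map N.arrow)) ≫
        (Subobject.mk (G.map N.arrow)).arrow) := by
      rw [(Subobject.isPullback _ _).w]; infer_instance
    exact mono_of_mono _ (Subobject.mk (G.map N.arrow)).arrow
  let m : (comap F G adj N : A) ⟶ G.obj (cokernel ((equivShrink _).symm Q).arrow) :=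
    Subobject.pullbackπ _ _ ≫ (Subobject.underlyingIso _).hom ≫ G.map (inv θ)
  have : Mono m := by
    have : Mono ((Subobject.underlyingIso (G.map N.arrow)).hom ≫ G.map (inv θ)) := inferInstance
    exact @mono_comp _ _ _ _ _ _ hπ _ this
  let Z := equivShrink.{w} _ (Subobject.mk m)
  exact ⟨⟨l, Q, Z⟩, ⟨eqToIso (by simp [genObj, Z]) ≪≫ Subobject.underlyingIso m⟩⟩

omit [IsDirectedOrder J] [Nonempty J] in
theorem separating {ι : Type w} (s : ι → B) [WellPowered.{w} B] [WellPowered.{w} A]
    (hsep : ∀ ⦃X Y : B⦄ (f g : X ⟶ Y), (∀ (i : ι) (h : s i ⟶ X), h ≫ f = h ≫ g) → f = g)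
    (good : ObjectProperty A)
    (hgood : ∀ {X : A} (N : Subobject (F.obj X)) {K : Type w} (k : K → ι)
      (f : ∀ x, s (k x) ⟶ F.obj X) (T : Finset K),
      N = T.sup (fun x => imageSubobject (f x)) → ∀ Y, (Y ≅ (comap F G adj N : A)) → good Y) :
    ∀ ⦃X Z : A⦄ (f g : X ⟶ Z),
      (∀ k, good (genObj G s k) → ∀ h : genObj G s k ⟶ X, h ≫ f = h ≫ g) → f = g := by
  classical
  intro X Z f g h
  let K := Σ i : ι, (s i ⟶ F.obj X)
  let N : Finset K → Subobject (F.obj X) := fun T => T.sup fun x => imageSubobject x.2
  have hN : Monotone N := fun _ _ h => Finset.sup_mono h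
  have hc : Covers N := fun W φ hφ => hsep φ 0 fun i a => by
    rw [comp_zero, ← imageSubobject_arrow_comp a, ← Subobject.ofLE_arrow
      (show imageSubobject a ≤ N {(⟨i, a⟩ : K)} from
        Finset.le_sup (f := fun x : K => imageSubobject x.2) (Finset.mem_singleton_self _))]
    simp only [Category.assoc, hφ, comp_zero]
  have : Mono (adj.unit.app X) := by
    refine Preadditive.mono_of_cancel_zero _ fun {T} x hx => F.map_injective ?_
    rw [← Category.comp_id (F.map x), ← adj.left_triangle_components, ← Category.assoc]
    erw [← F.map_comp, hx]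
    simp
  rw [← sub_eq_zero]
  refine covers_comap F G adj N hN hc _ fun T => ?_
  obtain ⟨l, e, he⟩ := exists_epi_listSum s (fun x : K => x.1) (fun x => x.2) T
  obtain ⟨k, ⟨θ⟩⟩ := exists_iso_genObj F G adj s (N T) e
  have := h k (hgood (N T) (fun x : K => x.1) (fun x => x.2) T rfl _ θ) (θ.hom ≫ (comap F G adj (N T)).arrow)
  rw [Category.assoc, Category.assoc, cancel_epi] at this
  rw [Preadditive.comp_sub, this, sub_self]

end Groth.Agent.FaithAdj
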